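import Mathlib.CategoryTheory.Abelian.SerreClass.Localization
import Mathlib.Algebra.Homology.ShortComplex.ExactFunctor

/-!
# The localization of an abelian category for a calculus of fractions is abelian
-/

set_option autoImplicit false

universe v' v u' u

open CategoryTheory CategoryTheory.Limits

set_option backward.isDefEq.respectTransparency false

namespace Groth.Agent.LocAb8

variable {A : Type u} [Category.{v} A] [Abelian A] {D : Type u'} [Category.{v'} D] (L : A ⥤ D)
  (W : MorphismProperty A) [W.HasLeftCalculusOfFractions] [W.HasRightCalculusOfFractions] [L.IsLocalization W]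
  [Preadditive D] [L.Additive]

include W

theorem preservesMonomorphisms : L.PreservesMonomorphisms where
  preserves {X Y} f _ := by
    have := Localization.essSurj L W
    rw [Preadditive.mono_iff_cancel_zero]
    intro Z z hz
    obtain ⟨φ, hφ⟩ := Localization.exists_rightFraction L W ((L.objObjPreimageIso Z).hom ≫ z)
    rw [← cancel_epi (L.objObjPreimageIso Z).hom, comp_zero, hφ,
      ← cancel_epi (L.map φ.s), comp_zero, MorphismProperty.RightFraction.map_s_comp_map]
    have h : L.map φ.s ≫ (L.objObjPreimageIso Z).hom ≫ z = L.map φ.f := by cat_disch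
    have h0 : L.map (φ.f ≫ f) = L.map 0 := by
      rw [L.map_comp, ← h, L.map_zero, Category.assoc, Category.assoc, hz, comp_zero, comp_zero]
    obtain ⟨T, t, ht, e⟩ := (MorphismProperty.map_eq_iff_precomp L W _ _).1 h0
    rw [comp_zero, ← Category.assoc] at e
    have e' : t ≫ φ.f = 0 := (cancel_mono f).1 (e.trans zero_comp.symm)
    rw [← L.map_zero, MorphismProperty.map_eq_iff_precomp L W]
    exact ⟨T, t, ht, by rw [e', comp_zero]⟩

theorem preservesEpimorphisms : L.PreservesEpimorphisms where
  preserves {X Y} f _ := by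
    have := Localization.essSurj L W
    rw [Preadditive.epi_iff_cancel_zero]
    intro Z z hz
    obtain ⟨φ, hφ⟩ := Localization.exists_leftFraction L W (z ≫ (L.objObjPreimageIso Z).inv)
    rw [← cancel_mono (L.objObjPreimageIso Z).inv, zero_comp, hφ,
      ← cancel_mono (L.map φ.s), zero_comp, MorphismProperty.LeftFraction.map_comp_map_s]
    have h : L.map φ.f = z ≫ (L.objObjPreimageIso Z).inv ≫ L.map φ.s := by simp [reassoc_of% hφ]
    have h0 : L.map (f ≫ φ.f) = L.map 0 := by
      rw [L.map_comp, h, L.map_zero, reassoc_of% hz, zero_comp]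
    obtain ⟨T, t, ht, e⟩ := (MorphismProperty.map_eq_iff_postcomp L W _ _).1 h0
    rw [zero_comp, Category.assoc] at e
    have e' : φ.f ≫ t = 0 := (cancel_epi f).1 (e.trans comp_zero.symm)
    rw [← L.map_zero, MorphismProperty.map_eq_iff_postcomp L W]
    exact ⟨T, t, ht, by rw [e', zero_comp]⟩

theorem preservesKernel {X Y : A} (f : X ⟶ Y) : PreservesLimit (parallelPair f 0) L := by
  have := preservesMonomorphisms L W
  have := Localization.essSurj L W
  suffices ∀ (Z : D) (z : Z ⟶ L.obj X) (hz : z ≫ L.map f = 0),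
      ∃ (l : Z ⟶ L.obj (kernel f)), l ≫ L.map (kernel.ι f) = z from
    preservesLimit_of_preserves_limit_cone (kernelIsKernel f)
      ((KernelFork.isLimitMapConeEquiv _ L).2
        (Fork.IsLimit.ofExistsUnique
          (fun s ↦ existsUnique_of_exists_of_unique (this _ _ (KernelFork.condition s))
            (fun _ _ h₁ h₂ ↦ by simpa [cancel_mono] using h₁.trans h₂.symm))))
  intro Z z hz
  obtain ⟨φ, hφ⟩ := Localization.exists_rightFraction L W ((L.objObjPreimageIso Z).hom ≫ z)
  rw [← cancel_epi (L.map φ.s), MorphismProperty.RightFraction.map_s_comp_map] at hφ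
  have h0 : L.map (φ.f ≫ f) = L.map 0 := by
    rw [L.map_comp, ← hφ, L.map_zero, Category.assoc, Category.assoc, hz, comp_zero, comp_zero]
  obtain ⟨T, t, ht, e⟩ := (MorphismProperty.map_eq_iff_precomp L W _ _).1 h0
  rw [comp_zero, ← Category.assoc] at e
  have := Localization.inverts L W t ht
  have := Localization.inverts L W φ.s φ.hs
  refine ⟨(L.objObjPreimageIso Z).inv ≫ inv (L.map φ.s) ≫ inv (L.map t) ≫ L.map (kernel.lift _ _ e), ?_⟩
  simp only [Category.assoc, ← L.map_comp, kernel.lift_ι]
  rw [L.map_comp, IsIso.inv_hom_id_assoc, ← hφ]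
  simp

theorem preservesCokernel {X Y : A} (f : X ⟶ Y) : PreservesColimit (parallelPair f 0) L := by
  have := preservesEpimorphisms L W
  have := Localization.essSurj L W
  suffices ∀ (Z : D) (z : L.obj Y ⟶ Z) (hz : L.map f ≫ z = 0),
      ∃ (l : L.obj (cokernel f) ⟶ Z), L.map (cokernel.π f) ≫ l = z from
    preservesColimit_of_preserves_colimit_cocone (cokernelIsCokernel f)
      ((CokernelCofork.isColimitMapCoconeEquiv _ L).2
        (Cofork.IsColimit.ofExistsUnique
          (fun s ↦ existsUnique_of_exists_of_unique (this _ _ (CokernelCofork.condition s))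
            (fun _ _ h₁ h₂ ↦ by simpa [cancel_epi] using h₁.trans h₂.symm))))
  intro Z z hz
  obtain ⟨φ, hφ⟩ := Localization.exists_leftFraction L W (z ≫ (L.objObjPreimageIso Z).inv)
  rw [← cancel_mono (L.map φ.s), Category.assoc, MorphismProperty.LeftFraction.map_comp_map_s] at hφ
  have h0 : L.map (f ≫ φ.f) = L.map 0 := by
    rw [L.map_comp, ← hφ, L.map_zero, reassoc_of% hz, zero_comp]
  obtain ⟨T, t, ht, e⟩ := (MorphismProperty.map_eq_iff_postcomp L W _ _).1 h0
  rw [zero_comp, Category.assoc] at e
  have := Localization.inverts L W t ht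
  have := Localization.inverts L W φ.s φ.hs
  refine ⟨L.map (cokernel.desc _ _ e) ≫ inv (L.map t) ≫ inv (L.map φ.s) ≫ (L.objObjPreimageIso Z).hom, ?_⟩
  simp [← L.map_comp_assoc, ← hφ]

theorem mono_iff {X Y : D} (g : X ⟶ Y) [Mono g] :
    ∃ (X' Y' : A) (f' : X' ⟶ Y') (_ : Mono f'), Nonempty (Arrow.mk (L.map f') ≅ Arrow.mk g) := by
  have := Localization.essSurj_mapArrow L W
  let e := L.mapArrow.objObjPreimageIso (Arrow.mk g)
  let f := (L.mapArrow.objPreimage (Arrow.mk g)).hom
  haveI : Mono (L.map f) := ((MorphismProperty.monomorphisms D).arrow_iso_iff e).2 (.infer_property g)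
  haveI := preservesCokernel L W (kernel.ι f)
  have hι : L.map (kernel.ι f) = 0 := by
    rw [← cancel_mono (L.map f), zero_comp, ← L.map_comp, kernel.condition, L.map_zero]
  have hc : IsColimit (CokernelCofork.ofπ (L.map (Abelian.coimage.π f)) (by rw [hι, zero_comp]) :
      CokernelCofork (L.map (kernel.ι f))) :=
    (CokernelCofork.isColimitMapCoconeEquiv (CokernelCofork.ofπ (cokernel.π (kernel.ι f)) (cokernel.condition _)) L).1
      (isColimitOfPreserves L (cokernelIsCokernel (kernel.ι f)))
  haveI : IsIso (L.map (Abelian.coimage.π f)) := CokernelCofork.IsColimit.isIso_π _ hc hι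
  refine ⟨_, _, Abelian.factorThruCoimage f, inferInstance, ⟨Iso.symm ?_ ≪≫ e⟩⟩
  exact Arrow.isoMk (asIso (L.map (Abelian.coimage.π f))) (Iso.refl _) (by simp [← L.map_comp, f]; rfl)

theorem epi_iff {X Y : D} (g : X ⟶ Y) [Epi g] :
    ∃ (X' Y' : A) (f' : X' ⟶ Y') (_ : Epi f'), Nonempty (Arrow.mk (L.map f') ≅ Arrow.mk g) := by
  have := Localization.essSurj_mapArrow L W
  let e := L.mapArrow.objObjPreimageIso (Arrow.mk g)
  let f := (L.mapArrow.objPreimage (Arrow.mk g)).hom
  haveI : Epi (L.map f) := ((MorphismProperty.epimorphisms D).arrow_iso_iff e).2 (.infer_property g)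
  haveI := preservesKernel L W (cokernel.π f)
  have hπ : L.map (cokernel.π f) = 0 := by
    rw [← cancel_epi (L.map f), comp_zero, ← L.map_comp, cokernel.condition, L.map_zero]
  have hc : IsLimit (KernelFork.ofι (L.map (Abelian.image.ι f)) (by rw [hπ, comp_zero]) :
      KernelFork (L.map (cokernel.π f))) :=
    (KernelFork.isLimitMapConeEquiv (KernelFork.ofι (kernel.ι (cokernel.π f)) (kernel.condition _)) L).1
      (isLimitOfPreserves L (kernelIsKernel (cokernel.π f)))
  haveI : IsIso (L.map (Abelian.image.ι f)) := KernelFork.IsLimit.isIso_ι _ hc hπ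
  refine ⟨_, _, Abelian.factorThruImage f, inferInstance, ⟨?_ ≪≫ e⟩⟩
  exact Arrow.isoMk (Iso.refl _) (asIso (L.map (Abelian.image.ι f))) (by simp [← L.map_comp, f]; rfl)

include L

theorem isNormalMonoCategory : IsNormalMonoCategory D where
  normalMonoOfMono g hg := by
    obtain ⟨X', Y', f', _, ⟨e⟩⟩ := mono_iff L W g
    let hf' := normalMonoOfMono f'
    have := preservesKernel L W hf'.g
    refine ⟨NormalMono.ofArrowIso ?_ e⟩
    exact {
      Z := L.obj hf'.Z
      g := L.map hf'.g
      w := by rw [← L.map_comp]; simp [hf'.w]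
      isLimit := (KernelFork.isLimitMapConeEquiv _ L).1 (isLimitOfPreserves L hf'.isLimit) }

theorem isNormalEpiCategory : IsNormalEpiCategory D where
  normalEpiOfEpi g hg := by
    obtain ⟨X', Y', f', _, ⟨e⟩⟩ := epi_iff L W g
    let hf' := normalEpiOfEpi f'
    have := preservesCokernel L W hf'.g
    refine ⟨NormalEpi.ofArrowIso ?_ e⟩
    exact {
      W := L.obj hf'.W
      g := L.map hf'.g
      w := by rw [← L.map_comp]; simp [hf'.w]
      isColimit := (CokernelCofork.isColimitMapCoconeEquiv _ L).1 (isColimitOfPreserves L hf'.isColimit) }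

theorem hasKernels : HasKernels D where
  has_limit f := by
    obtain ⟨g, ⟨e⟩⟩ := (Localization.essSurj_mapArrow L W).mem_essImage (Arrow.mk f)
    have := preservesKernel L W g.hom
    have : HasLimit (parallelPair (L.map g.hom) 0) :=
      ⟨_, (KernelFork.isLimitMapConeEquiv _ L).1 (isLimitOfPreserves L (kernelIsKernel g.hom))⟩
    exact hasLimit_of_iso (show parallelPair (L.map g.hom) 0 ≅ _ from
      parallelPair.ext (Arrow.leftFunc.mapIso e) (Arrow.rightFunc.mapIso e))

theorem hasCokernels : HasCokernels D where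
  has_colimit f := by
    obtain ⟨g, ⟨e⟩⟩ := (Localization.essSurj_mapArrow L W).mem_essImage (Arrow.mk f)
    have := preservesCokernel L W g.hom
    have : HasColimit (parallelPair (L.map g.hom) 0) :=
      ⟨_, (CokernelCofork.isColimitMapCoconeEquiv _ L).1 (isColimitOfPreserves L (cokernelIsCokernel g.hom))⟩
    exact hasColimit_of_iso (show _ ≅ parallelPair (L.map g.hom) 0 from
      parallelPair.ext (Arrow.leftFunc.mapIso e.symm) (Arrow.rightFunc.mapIso e.symm))

theorem exists_abelian : Nonempty (Abelian D) ∧ PreservesFiniteLimits L ∧ PreservesFiniteColimits L := by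
  have := Localization.essSurj L W
  have : HasFiniteProducts D := L.hasFiniteProducts_of_additive_of_essSurj
  have := hasKernels L W
  have := hasCokernels L W
  have := isNormalMonoCategory L W
  have := isNormalEpiCategory L W
  let hD : Abelian D := { }
  refine ⟨⟨hD⟩, ?_, ?_⟩
  · rw [((Functor.preservesFiniteLimits_tfae L).out 3 2 :)]
    intro _ _ f
    exact preservesKernel L W f
  · rw [((Functor.preservesFiniteColimits_tfae L).out 3 2 :)]
    intro _ _ f
    exact preservesCokernel L W f

end Groth.Agent.LocAb8
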